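import Mathlib.RingTheory.Length
import Mathlib.RingTheory.HopkinsLevitzki
import Mathlib.Algebra.Module.Lattice
import Mathlib.RingTheory.KrullDimension.Basic
import Mathlib.RingTheory.KrullDimension.Zero
import Mathlib.RingTheory.Localization.FractionRing
import Mathlib.Topology.Connected.Basic
import Mathlib.Analysis.Convex.PathConnected
import Mathlib.Topology.Order.IntermediateValue
import Mathlib.Tactic

/-!
Assorted small lemmas (fourth batch).
-/

universe u

namespace Groth.Agent.SmallH9d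

theorem exists_chain_coeffs (n r : ℕ) (hn : 1 ≤ n) (hr : 2 ≤ r)
    (e : ℕ → ℤ) (he0 : e 0 = 0) (henr : e (n * r) = 0)
    (hdiv : ∀ j : ℕ, 1 ≤ j → j < n * r → (r : ℤ) ∣ e (j - 1) - 2 * e j + e (j + 1)) :
    ∃ e' : ℕ → ℤ, e' 0 = 0 ∧ e' (n * r) = 0 ∧
      (∀ j : ℕ, 1 ≤ j → j < n * r → (r : ℤ) ∣ e' j - e j) ∧
      (∀ j : ℕ, j ≤ n * r → e' j ≤ 0) ∧
      (∀ j : ℕ, 1 ≤ j → j < n * r →
        (e' (j - 1) - 2 * e' j + e' (j + 1) = 0 ∨ e' (j - 1) - 2 * e' j + e' (j + 1) = r)) ∧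
      (∀ j j' : ℕ, 1 ≤ j → j < n * r → 1 ≤ j' → j' < n * r →
        e' (j - 1) - 2 * e' j + e' (j + 1) ≠ 0 → e' (j' - 1) - 2 * e' j' + e' (j' + 1) ≠ 0 →
          j = j') := by
  have hr0 : (0 : ℤ) < r := by exact_mod_cast (by omega : 0 < r)
  obtain ⟨a, ha, hadvd⟩ : ∃ a : ℕ, a < r ∧ (r : ℤ) ∣ (a : ℤ) + e 1 := by
    refine ⟨((-e 1) % (r : ℤ)).toNat, ?_, ?_⟩
    · have := Int.emod_lt_of_pos (-e 1) hr0
      have := Int.emod_nonneg (-e 1) hr0.ne'
      omega
    · rw [Int.toNat_of_nonneg (Int.emod_nonneg _ hr0.ne')]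
      refine ⟨-((-e 1) / (r : ℤ)), ?_⟩
      linarith [Int.emod_add_mul_ediv (-e 1) (r : ℤ)]
  have hcong : ∀ j, j ≤ n * r → (r : ℤ) ∣ e j + a * j := by
    intro j
    induction j using Nat.strong_induction_on with
    | _ j ih =>
      intro hj
      rcases j with _ | _ | j
      · simp [he0]
      · simpa [add_comm] using hadvd
      · have h1 := ih j (by omega) (by omega)
        have h2 := ih (j + 1) (by omega) (by omega)
        have h3 := hdiv (j + 1) (by omega) (by omega)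
        simp only [add_tsub_cancel_right] at h3
        have := (h3.sub h1).add (h2.mul_left 2)
        push_cast at this ⊢
        refine Int.dvd_trans this (dvd_of_eq ?_)
        ring_nf
  have han : a * n ≤ n * r := by rw [mul_comm n r]; exact Nat.mul_le_mul_right n ha.le
  obtain ⟨j₀, hj₀⟩ : ∃ j₀, n * r = j₀ + a * n := ⟨n * r - a * n, by omega⟩
  let f : ℕ → ℤ := fun j => -(a : ℤ) * j + (r : ℤ) * ((j - j₀ : ℕ) : ℤ)
  have hnr : ((n * r : ℕ) : ℤ) = (j₀ : ℤ) + a * n := by rw [hj₀]; push_cast; ring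
  have hsec : ∀ j : ℕ, 1 ≤ j → f (j - 1) - 2 * f j + f (j + 1) =
      if j = j₀ then (r : ℤ) else 0 := by
    intro j hj
    obtain ⟨j, rfl⟩ : ∃ i, j = i + 1 := ⟨j - 1, by omega⟩
    simp only [f, add_tsub_cancel_right]
    split_ifs with h
    · subst h
      rw [Nat.sub_eq_zero_of_le (by omega : j ≤ j + 1), Nat.sub_self,
        show j + 1 + 1 - (j + 1) = 1 by omega]
      push_cast
      ring
    · rcases Nat.lt_or_ge (j + 1) j₀ with h' | h'
      · rw [Nat.sub_eq_zero_of_le (by omega : j ≤ j₀), Nat.sub_eq_zero_of_le h'.le,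
          Nat.sub_eq_zero_of_le (by omega : j + 1 + 1 ≤ j₀)]
        push_cast
        ring
      · rw [Nat.cast_sub (by omega : j₀ ≤ j), Nat.cast_sub (by omega : j₀ ≤ j + 1),
          Nat.cast_sub (by omega : j₀ ≤ j + 1 + 1)]
        push_cast
        ring
  refine ⟨f, by simp [f], ?_, fun j hj hj' => ?_, fun j hj => ?_, fun j hj _ => ?_,
    fun j j' hj _ hj' _ h h' => ?_⟩
  · simp only [f, Nat.cast_sub (show j₀ ≤ n * r by omega)]
    rw [hnr]
    have : ((n : ℤ) * r) = (j₀ : ℤ) + a * n := by rw [← hnr]; push_cast; ring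
    linear_combination (a : ℤ) * this
  · have := (dvd_mul_right (r : ℤ) ((j - j₀ : ℕ) : ℤ)).sub (hcong j hj'.le)
    refine Int.dvd_trans this (dvd_of_eq ?_)
    simp only [f]
    ring
  · simp only [f]
    rcases Nat.lt_or_ge j j₀ with h | h
    · rw [Nat.sub_eq_zero_of_le h.le]
      simp only [Nat.cast_zero, mul_zero, add_zero, neg_mul, neg_nonpos]
      positivity
    · rw [Nat.cast_sub h]
      have h1 : (j : ℤ) ≤ (n : ℤ) * r := by exact_mod_cast hj
      have h2 : (n : ℤ) * r = (j₀ : ℤ) + a * n := by exact_mod_cast hj₀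
      have h3 : ((r : ℤ) - a) * ((j : ℤ) - n * r) ≤ 0 :=
        mul_nonpos_of_nonneg_of_nonpos (by omega) (by omega)
      calc -(a : ℤ) * j + r * ((j : ℤ) - j₀) = ((r : ℤ) - a) * ((j : ℤ) - n * r) := by
            linear_combination (r : ℤ) * h2
        _ ≤ 0 := h3
  · rw [hsec j hj]
    split_ifs <;> simp
  · rw [hsec j hj] at h
    rw [hsec j' hj'] at h'
    split_ifs at h h' <;> first | omega | simp at h | simp at h'

section Lattice

variable {A : Type u} [CommRing A] [IsDomain A] {K : Type u} [Field K] [Algebra A K]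
  [IsFractionRing A K] {V : Type u} [AddCommGroup V] [Module K V] [Module A V]
  [IsScalarTower A K V]

theorem exists_smul_mem (M : Submodule A V) [Submodule.IsLattice K M] (v : V) :
    ∃ a : A, a ≠ 0 ∧ a • v ∈ M := by
  have h : v ∈ Submodule.span K (M : Set V) := by
    rw [Submodule.IsLattice.span_eq_top]; trivial
  induction h using Submodule.span_induction with
  | mem x hx => exact ⟨1, one_ne_zero, by rwa [one_smul]⟩
  | zero => exact ⟨1, one_ne_zero, by simp⟩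
  | add x y _ _ hx hy =>
    obtain ⟨a, ha, hax⟩ := hx
    obtain ⟨b, hb, hby⟩ := hy
    refine ⟨a * b, mul_ne_zero ha hb, ?_⟩
    rw [smul_add]
    exact add_mem (by rw [mul_comm, mul_smul]; exact M.smul_mem b hax)
      (by rw [mul_smul]; exact M.smul_mem a hby)
  | smul c x _ hx =>
    obtain ⟨a, ha, hax⟩ := hx
    obtain ⟨⟨p, q⟩, hpq⟩ := IsLocalization.surj (nonZeroDivisors A) c
    refine ⟨(q : A) * a, mul_ne_zero (nonZeroDivisors.ne_zero q.2) ha, ?_⟩
    have e : ((q : A) * a) • c • x = p • (a • x) := by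
      rw [← algebraMap_smul K p (a • x), ← hpq, ← algebraMap_smul K ((q : A) * a) (c • x),
        ← algebraMap_smul K a x, smul_smul, smul_smul, map_mul]
      ring_nf
    rw [e]
    exact M.smul_mem _ hax

variable [IsNoetherianRing A] [IsLocalRing A]

theorem length_quot_ne_top (hA : ringKrullDim A = 1) (M : Submodule A V) (hM : M.FG)
    (N : Submodule A V) (hN : ∀ v ∈ M, ∃ a : A, a ≠ 0 ∧ a • v ∈ N) :
    Module.length A (↥M ⧸ N.submoduleOf M) ≠ ⊤ := by
  classical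
  obtain ⟨s, rfl⟩ := hM
  choose a ha ha' using fun v : s => hN v.1 (Submodule.subset_span v.2)
  let d : A := ∏ v, a v
  have hd : d ≠ 0 := Finset.prod_ne_zero_iff.mpr fun v _ => ha v
  have hdN : ∀ v ∈ Submodule.span A (s : Set V), d • v ∈ N := by
    intro v hv
    induction hv using Submodule.span_induction with
    | mem x hx =>
      obtain ⟨b, hb⟩ := Finset.dvd_prod_of_mem a (Finset.mem_univ (⟨x, hx⟩ : s))
      show d • x ∈ N
      simp only [d]
      rw [hb, mul_comm, mul_smul]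
      exact N.smul_mem b (ha' ⟨x, hx⟩)
    | zero => simp
    | add x y _ _ hx hy => rw [smul_add]; exact N.add_mem hx hy
    | smul c x _ hx => rw [smul_comm]; exact N.smul_mem c hx
  let I := Ideal.span {d}
  have hIne : I ≠ ⊥ := by simpa [I] using hd
  have : Ring.KrullDimLE 0 (A ⧸ I) := by
    refine Ring.krullDimLE_zero_iff.mpr fun P hP => ?_
    have hP' := Ideal.comap_isPrime (Ideal.Quotient.mk I) P
    have hne : P.comap (Ideal.Quotient.mk I) ≠ ⊥ := fun h => hIne (eq_bot_iff.mpr (h ▸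
      (Ideal.mk_ker (I := I)).ge.trans (Ideal.comap_mono bot_le)))
    have : Ring.KrullDimLE 1 A := (Ring.krullDimLE_iff (n := 1)).mpr (by rw [hA]; exact le_rfl)
    have hmax := Ring.krullDimLE_one_iff_of_noZeroDivisors.mp this _ hne hP'
    have := hmax.map_of_surjective_of_ker_le (f := Ideal.Quotient.mk I)
      Ideal.Quotient.mk_surjective (Ideal.comap_mono bot_le)
    rwa [Ideal.map_comap_of_surjective _ Ideal.Quotient.mk_surjective] at this
  have hI : Module.IsTorsionBySet A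
      (↥(Submodule.span A (s : Set V)) ⧸ N.submoduleOf (Submodule.span A (s : Set V))) ↑I := by
    rw [Module.isTorsionBySet_span_singleton_iff]
    intro x
    obtain ⟨x, rfl⟩ := Submodule.mkQ_surjective _ x
    rw [← map_smul, Submodule.mkQ_apply, Submodule.Quotient.mk_eq_zero]
    exact hdN _ x.2
  let inst := hI.module
  have : IsScalarTower A (A ⧸ I)
      (↥(Submodule.span A (s : Set V)) ⧸ N.submoduleOf (Submodule.span A (s : Set V))) :=
    hI.isScalarTower
  have : Module.Finite A (↥(Submodule.span A (s : Set V))) :=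
    Module.Finite.iff_fg.mpr ⟨s, rfl⟩
  have : Module.Finite (A ⧸ I)
      (↥(Submodule.span A (s : Set V)) ⧸ N.submoduleOf (Submodule.span A (s : Set V))) :=
    Module.Finite.of_restrictScalars_finite A _ _
  have : IsArtinianRing (A ⧸ I) := IsNoetherianRing.isArtinianRing_of_krullDimLE_zero
  rw [Module.length_ne_top_iff, isFiniteLength_iff_isNoetherian_isArtinian]
  exact ⟨isNoetherian_of_isNoetherianRing_of_finite A _,
    isArtinian_of_surjective_algebraMap (R := A ⧸ I) (S := A) Ideal.Quotient.mk_surjective⟩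

theorem length_add (M₁ M₂ N : Submodule A V) (h : N ≤ M₁ ⊓ M₂) :
    Module.length A (↥M₁ ⧸ N.submoduleOf M₁) =
      Module.length A (↥(M₁ ⊓ M₂) ⧸ N.submoduleOf (M₁ ⊓ M₂)) +
        Module.length A (↥M₁ ⧸ (M₁ ⊓ M₂).submoduleOf M₁) := by
  have hle : N.submoduleOf M₁ ≤ (M₁ ⊓ M₂).submoduleOf M₁ := fun x hx => h hx
  refine Module.length_eq_add_of_exact
    ((N.submoduleOf (M₁ ⊓ M₂)).mapQ (N.submoduleOf M₁) (Submodule.inclusion inf_le_left)
      (fun x hx => hx))
    (Submodule.factor hle) ?_ (Submodule.factor_surjective hle) ?_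
  · rw [← LinearMap.ker_eq_bot, LinearMap.ker_eq_bot']
    intro x hx
    obtain ⟨x, rfl⟩ := Submodule.mkQ_surjective _ x
    exact (Submodule.Quotient.mk_eq_zero _).mpr ((Submodule.Quotient.mk_eq_zero
      (p := N.submoduleOf M₁) (x := Submodule.inclusion inf_le_left x)).mp hx)
  · intro y
    obtain ⟨y, rfl⟩ := Submodule.mkQ_surjective _ y
    constructor
    · intro hy
      have hy' : y.1 ∈ M₁ ⊓ M₂ :=
        (Submodule.Quotient.mk_eq_zero ((M₁ ⊓ M₂).submoduleOf M₁) (x := y)).mp hy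
      exact ⟨Submodule.Quotient.mk ⟨y.1, hy'⟩, rfl⟩
    · rintro ⟨x, hx⟩
      obtain ⟨x, rfl⟩ := Submodule.mkQ_surjective _ x
      rw [← hx]
      exact (Submodule.Quotient.mk_eq_zero _).mpr x.2

theorem latticeDist_add (hA : ringKrullDim A = 1)
    (M₁ M₂ M₃ : Submodule A V) [Submodule.IsLattice K M₁] [Submodule.IsLattice K M₂]
    [Submodule.IsLattice K M₃] :
    ((Module.length A (↥M₁ ⧸ (M₁ ⊓ M₃).submoduleOf M₁)).toNat : ℤ) -
        ((Module.length A (↥M₃ ⧸ (M₁ ⊓ M₃).submoduleOf M₃)).toNat : ℤ) =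
      (((Module.length A (↥M₁ ⧸ (M₁ ⊓ M₂).submoduleOf M₁)).toNat : ℤ) -
        ((Module.length A (↥M₂ ⧸ (M₁ ⊓ M₂).submoduleOf M₂)).toNat : ℤ)) +
      (((Module.length A (↥M₂ ⧸ (M₂ ⊓ M₃).submoduleOf M₂)).toNat : ℤ) -
        ((Module.length A (↥M₃ ⧸ (M₂ ⊓ M₃).submoduleOf M₃)).toNat : ℤ)) := by
  let N : Submodule A V := M₁ ⊓ M₂ ⊓ M₃
  have hfin : ∀ M : Submodule A V, Submodule.IsLattice K M →
      Module.length A (↥M ⧸ N.submoduleOf M) ≠ ⊤ := fun M hM =>
    length_quot_ne_top hA M Submodule.IsLattice.fg N fun v _ => by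
      obtain ⟨a, ha, hav⟩ := exists_smul_mem (K := K) M₁ v
      obtain ⟨b, hb, hbv⟩ := exists_smul_mem (K := K) M₂ v
      obtain ⟨c, hc, hcv⟩ := exists_smul_mem (K := K) M₃ v
      refine ⟨a * b * c, mul_ne_zero (mul_ne_zero ha hb) hc, ⟨⟨?_, ?_⟩, ?_⟩⟩
      · rw [show a * b * c = b * c * a by ring, mul_smul]; exact M₁.smul_mem _ hav
      · rw [show a * b * c = a * c * b by ring, mul_smul]; exact M₂.smul_mem _ hbv
      · rw [mul_smul]; exact M₃.smul_mem _ hcv
  have key : ∀ P Q : Submodule A V, Submodule.IsLattice K P → Submodule.IsLattice K Q →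
      N ≤ P ⊓ Q →
      ((Module.length A (↥P ⧸ (P ⊓ Q).submoduleOf P)).toNat : ℤ) -
        ((Module.length A (↥Q ⧸ (P ⊓ Q).submoduleOf Q)).toNat : ℤ) =
      ((Module.length A (↥P ⧸ N.submoduleOf P)).toNat : ℤ) -
        ((Module.length A (↥Q ⧸ N.submoduleOf Q)).toNat : ℤ) := by
    intro P Q hP hQ hle
    have h1 := length_add P Q N hle
    have h2 := length_add Q P N (hle.trans (inf_comm P Q).le)
    rw [inf_comm Q P] at h2
    have f1 := hfin P hP
    have f2 := hfin Q hQ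
    obtain ⟨x, hx⟩ := ENat.ne_top_iff_exists.mp f1
    obtain ⟨y, hy⟩ := ENat.ne_top_iff_exists.mp f2
    rw [h1] at f1
    rw [h2] at f2
    obtain ⟨z, hz⟩ := ENat.ne_top_iff_exists.mp (WithTop.add_ne_top.mp f1).1
    obtain ⟨u, hu⟩ := ENat.ne_top_iff_exists.mp (WithTop.add_ne_top.mp f1).2
    obtain ⟨w, hw⟩ := ENat.ne_top_iff_exists.mp (WithTop.add_ne_top.mp f2).2
    rw [← hx, ← hz, ← hu, ← Nat.cast_add, Nat.cast_inj] at h1
    rw [← hy, ← hz, ← hw, ← Nat.cast_add, Nat.cast_inj] at h2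
    rw [← hx, ← hy, ← hu, ← hw, ENat.toNat_coe, ENat.toNat_coe, ENat.toNat_coe, ENat.toNat_coe,
      h1, h2]
    push_cast
    ring
  rw [key M₁ M₃ inferInstance inferInstance (le_inf (inf_le_left.trans inf_le_left) inf_le_right),
    key M₁ M₂ inferInstance inferInstance inf_le_left,
    key M₂ M₃ inferInstance inferInstance (le_inf (inf_le_left.trans inf_le_right) inf_le_right)]
  ring

end Lattice

theorem numEquiv_iff (I : Type u) [Fintype I] (d : I → ℕ) (θ₁ θ₂ : I → ℝ)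
    (h₁ : ∑ i, θ₁ i * (d i : ℝ) = 0) (h₂ : ∑ i, θ₂ i * (d i : ℝ) = 0) :
    (∀ d' : I → ℕ, d' ≤ d →
        SignType.sign (∑ i, θ₁ i * (d' i : ℝ)) = SignType.sign (∑ i, θ₂ i * (d' i : ℝ))) ↔
    ∃ J₁ : Set (I → ℕ), J₁ ⊆ {d' | d' ≤ d ∧ ¬ ∃ m : ℕ, d = m • d'} ∧
      θ₂ ∈ connectedComponentIn
        {θ : I → ℝ | ∑ i, θ i * (d i : ℝ) = 0 ∧ (∀ d₁ ∈ J₁, ∑ i, θ i * (d₁ i : ℝ) = 0) ∧
          ∀ d₂ : I → ℕ, d₂ ≤ d → (¬ ∃ m : ℕ, d = m • d₂) → d₂ ∉ J₁ →
            ∑ i, θ i * (d₂ i : ℝ) ≠ 0} θ₁ := by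
  constructor
  · intro h
    refine ⟨{d' | d' ≤ d ∧ (¬ ∃ m : ℕ, d = m • d') ∧ ∑ i, θ₁ i * (d' i : ℝ) = 0},
      fun d' hd' => ⟨hd'.1, hd'.2.1⟩, ?_⟩
    have hlin : ∀ (a b : ℝ) (d' : I → ℕ), ∑ i, (a • θ₁ + b • θ₂) i * (d' i : ℝ)
        = a * ∑ i, θ₁ i * (d' i : ℝ) + b * ∑ i, θ₂ i * (d' i : ℝ) := fun a b d' => by
      simp only [Pi.add_apply, Pi.smul_apply, smul_eq_mul, Finset.mul_sum,
        ← Finset.sum_add_distrib]
      exact Finset.sum_congr rfl fun i _ => by ring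
    refine (convex_segment θ₁ θ₂).isPreconnected.subset_connectedComponentIn
      (left_mem_segment _ _ _) ?_ (right_mem_segment _ _ _)
    rintro θ ⟨a, b, ha, hb, hab, rfl⟩
    refine ⟨by rw [hlin, h₁, h₂]; ring, fun d₁ hd₁ => ?_, fun d₂ hd₂ hm hJ => ?_⟩
    · have := h d₁ hd₁.1
      rw [hd₁.2.2, sign_zero, eq_comm, sign_eq_zero_iff] at this
      rw [hlin, hd₁.2.2, this]
      ring
    · have hne : ∑ i, θ₁ i * (d₂ i : ℝ) ≠ 0 := fun h0 => hJ ⟨hd₂, hm, h0⟩
      have hs := h d₂ hd₂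
      rw [hlin]
      rcases lt_or_gt_of_ne hne with hl | hl
      · have hl2 : ∑ i, θ₂ i * (d₂ i : ℝ) < 0 := by
          rw [sign_neg hl, eq_comm, sign_eq_neg_one_iff] at hs; exact hs
        rcases ha.eq_or_lt with rfl | ha'
        · rw [zero_mul, zero_add, show b = 1 by linarith, one_mul]; exact hl2.ne
        · exact (add_neg_of_neg_of_nonpos (mul_neg_of_pos_of_neg ha' hl)
            (mul_nonpos_of_nonneg_of_nonpos hb hl2.le)).ne
      · have hl2 : 0 < ∑ i, θ₂ i * (d₂ i : ℝ) := by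
          rw [sign_pos hl, eq_comm, sign_eq_one_iff] at hs; exact hs
        rcases ha.eq_or_lt with rfl | ha'
        · rw [zero_mul, zero_add, show b = 1 by linarith, one_mul]; exact hl2.ne'
        · exact (add_pos_of_pos_of_nonneg (mul_pos ha' hl) (mul_nonneg hb hl2.le)).ne'
  · rintro ⟨J, hJ, hθ⟩ d' hd'
    have hmem := connectedComponentIn_nonempty_iff.mp ⟨_, hθ⟩
    obtain ⟨C, hC⟩ : ∃ C, connectedComponentIn
        {θ : I → ℝ | ∑ i, θ i * (d i : ℝ) = 0 ∧ (∀ d₁ ∈ J, ∑ i, θ i * (d₁ i : ℝ) = 0) ∧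
          ∀ d₂ : I → ℕ, d₂ ≤ d → (¬ ∃ m : ℕ, d = m • d₂) → d₂ ∉ J →
            ∑ i, θ i * (d₂ i : ℝ) ≠ 0} θ₁ = C := ⟨_, rfl⟩
    have hsub : C ⊆ _ := hC ▸ connectedComponentIn_subset _ _
    by_cases hm : ∃ m : ℕ, d = m • d'
    · obtain ⟨m, rfl⟩ := hm
      rcases Nat.eq_zero_or_pos m with rfl | hm
      · have : d' = 0 := le_antisymm (by simpa using hd') bot_le
        simp [this]
      · have key : ∀ θ : I → ℝ, ∑ i, θ i * ((m • d') i : ℝ) = 0 →
            ∑ i, θ i * (d' i : ℝ) = 0 := fun θ h => by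
          have : (m : ℝ) * ∑ i, θ i * (d' i : ℝ) = 0 := by
            rw [← h, Finset.mul_sum]
            exact Finset.sum_congr rfl fun i _ => by simp; ring
          exact (mul_eq_zero.mp this).resolve_left (by exact_mod_cast hm.ne')
        rw [key _ h₁, key _ h₂]
    by_cases hdJ : d' ∈ J
    · rw [hmem.2.1 d' hdJ, (hsub (hC ▸ hθ)).2.1 d' hdJ]
    have hcont : Continuous fun θ : I → ℝ => ∑ i, θ i * (d' i : ℝ) := by fun_prop
    have hconn : IsPreconnected C := hC ▸ isPreconnected_connectedComponentIn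
    have h1C : θ₁ ∈ C := hC ▸ mem_connectedComponentIn hmem
    have h2C : θ₂ ∈ C := hC ▸ hθ
    have hne : ∀ θ ∈ C, ∑ i, θ i * (d' i : ℝ) ≠ 0 := fun θ hθ => (hsub hθ).2.2 d' hd' hm hdJ
    by_contra hs
    rcases lt_or_gt_of_ne (hne _ h1C) with h | h <;>
      rcases lt_or_gt_of_ne (hne _ h2C) with h' | h'
    · exact hs (by rw [sign_neg h, sign_neg h'])
    · obtain ⟨z, hz, hz'⟩ := hconn.intermediate_value₂ h1C h2C hcont.continuousOn
        continuousOn_const h.le h'.le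
      exact hne z hz hz'
    · obtain ⟨z, hz, hz'⟩ := hconn.intermediate_value₂ h2C h1C hcont.continuousOn
        continuousOn_const h'.le h.le
      exact hne z hz hz'
    · exact hs (by rw [sign_pos h, sign_pos h'])

end Groth.Agent.SmallH9d
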